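import Groth.Agent.S0521
import Groth.Agent.S0388
import Groth.Agent.S1297
import Mathlib.RingTheory.Spectrum.Prime.Topology

/-!
# Henselian couples `(X, X₀)` with `X` proper, and the henselian pair of the Stein factorization

* `exists_isClopen_eq_preimage`: clopen subsets of the source of a closed map with connected fibres.
* `henselianRing_of_couple`: if `(X, X₀)` is a henselian couple and `X ⟶ Spec B` is proper with
  geometrically connected fibres, `(B, IB)` is a henselian pair.
-/

set_option autoImplicit false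

universe u

open CategoryTheory CategoryTheory.Limits AlgebraicGeometry

namespace K106.HensPair

/-- A clopen subset of the source of a closed surjective map with connected fibres is the preimage
of a clopen subset. -/
theorem exists_isClopen_eq_preimage {X Y : Type*} [TopologicalSpace X] [TopologicalSpace Y]
    {f : X → Y} (hf : IsClosedMap f) (hs : Function.Surjective f)
    (hc : ∀ y, IsPreconnected (f ⁻¹' {y})) {U : Set X} (hU : IsClopen U) :
    ∃ W : Set Y, IsClopen W ∧ f ⁻¹' W = U := by
  have key : ∀ x ∈ U, ∀ x', f x' = f x → x' ∈ U := by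
    intro x hx x' hxx'
    exact (hc (f x)).subset_isClopen hU ⟨x, rfl, hx⟩ hxx'
  have h1 : f ⁻¹' (f '' U) = U := by
    ext x
    constructor
    · rintro ⟨x', hx', h⟩
      exact key x' hx' x h.symm
    · intro hx
      exact ⟨x, hx, rfl⟩
  refine ⟨f '' U, ⟨hf _ hU.1, ?_⟩, h1⟩
  have h2 : (f '' U)ᶜ = f '' Uᶜ := by
    ext y
    constructor
    · intro hy
      obtain ⟨x, rfl⟩ := hs y
      exact ⟨x, fun hx => hy ⟨x, hx, rfl⟩, rfl⟩
    · rintro ⟨x, hx, rfl⟩ ⟨x', hx', h⟩
      exact hx (key x' hx' x h.symm)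
  rw [← isClosed_compl_iff, h2]
  exact hf _ hU.compl.1

/-- The square of quotients by `I` and `IB`. -/
theorem isPullback_quotient {A B : Type u} [CommRing A] [CommRing B] (φ : A →+* B) (I : Ideal A) :
    IsPullback (Spec.map (CommRingCat.ofHom
        (Ideal.quotientMap (I.map φ) φ Ideal.le_comap_map)))
      (Spec.map (CommRingCat.ofHom (Ideal.Quotient.mk (I.map φ))))
      (Spec.map (CommRingCat.ofHom (Ideal.Quotient.mk I))) (Spec.map (CommRingCat.ofHom φ)) := by
  refine (isPullback_SpecMap_of_isPushout _ _ _ _ ?_)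
  refine IsPushout.of_isColimit (PushoutCocone.IsColimit.mk ?_ (fun s => CommRingCat.ofHom
    (Ideal.Quotient.lift (I.map φ) s.inr.hom ?_)) ?_ ?_ ?_)
  · ext a
    rfl
  · intro a ha
    have h1 : I.map φ ≤ RingHom.ker s.inr.hom := by
      rw [Ideal.map_le_iff_le_comap]
      intro x hx
      have h2 := congrArg (fun h => h.hom x) s.condition
      change s.inr.hom (φ x) = 0
      refine h2.symm.trans ?_
      change s.inl.hom (Ideal.Quotient.mk I x) = 0
      rw [Ideal.Quotient.eq_zero_iff_mem.2 hx, map_zero]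
    exact h1 ha
  · intro s
    ext a
    have h2 := congrArg (fun h => h.hom a) s.condition
    exact h2.symm
  · intro s
    ext a
    rfl
  · intro s m hm1 hm2
    ext a
    have h2 := congrArg (fun h => h.hom a) hm2
    exact h2

theorem henselianRing_of_couple (A : Type u) [CommRing A] (I : Ideal A) {X : Scheme.{u}}
    (f : X ⟶ Spec (CommRingCat.of A))
    (hX : ∀ (Y : Scheme.{u}) (g : Y ⟶ X), IsFinite g →
      ∀ V : Set ↥(pullback g (pullback.fst f (Spec.map (CommRingCat.ofHom (Ideal.Quotient.mk I))))),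
        IsClopen V → ∃! U : Set ↥Y, IsClopen U ∧
          (pullback.fst g (pullback.fst f
            (Spec.map (CommRingCat.ofHom (Ideal.Quotient.mk I))))).base ⁻¹' U = V)
    (B : Type u) [CommRing B] (φ : A →+* B) (p : X ⟶ Spec (CommRingCat.of B))
    (hp : p ≫ Spec.map (CommRingCat.ofHom φ) = f) [IsProper p] [GeometricallyConnected p] :
    HenselianRing B (I.map φ) := by
  rw [Groth.Agent.S0521.result]
  intro C _ _ hC
  -- the finite cover `Y = X ×_B C`
  let q : pullback p (Spec.map (CommRingCat.ofHom (algebraMap B C))) ⟶ X := pullback.fst _ _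
  let y : pullback p (Spec.map (CommRingCat.ofHom (algebraMap B C))) ⟶ Spec (CommRingCat.of C) :=
    pullback.snd _ _
  have hq : IsFinite q := by
    have : IsFinite (Spec.map (CommRingCat.ofHom (algebraMap B C))) := by
      rw [IsFinite.SpecMap_iff]
      exact RingHom.finite_algebraMap.mpr hC
    infer_instance
  have hy1 : IsClosedMap y := y.isClosedMap
  have hy2 : Function.Surjective y := y.surjective
  have hy3 : ∀ c, _root_.IsPreconnected (y ⁻¹' {c}) :=
    fun c => (y.isConnected_preimage_singleton c).2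
  let i := pullback.fst f (Spec.map (CommRingCat.ofHom (Ideal.Quotient.mk I)))
  let z := pullback.fst q i
  let J : Ideal C := (I.map φ).map (algebraMap B C)
  have hy4 : ∀ w, y w ∈ PrimeSpectrum.zeroLocus (J : Set C) ↔
      f (q w) ∈ PrimeSpectrum.zeroLocus (I : Set A) := by
    intro w
    have h1 : Spec.map (CommRingCat.ofHom (algebraMap B C)) (y w) = p (q w) := by
      have h2 : q ≫ p = y ≫ Spec.map (CommRingCat.ofHom (algebraMap B C)) := pullback.condition
      rw [← Scheme.Hom.comp_apply, ← Scheme.Hom.comp_apply, h2]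
    have h3 : f (q w) = Spec.map (CommRingCat.ofHom φ) (p (q w)) := by
      rw [← hp, Scheme.Hom.comp_apply]
    rw [h3, ← h1]
    change J ≤ (y w).asIdeal ↔ I ≤ ((y w).asIdeal.comap (algebraMap B C)).comap φ
    rw [← Ideal.map_le_iff_le_comap, ← Ideal.map_le_iff_le_comap]
  have hz : Set.range z = y ⁻¹' (PrimeSpectrum.zeroLocus (J : Set C)) := by
    ext w
    have h1 : Set.range z = q ⁻¹' (Set.range i) := Scheme.Pullback.range_fst q i
    have h2 : Set.range i = f ⁻¹' (Set.range (Spec.map (CommRingCat.ofHom (Ideal.Quotient.mk I)))) :=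
      Scheme.Pullback.range_fst f _
    have h3 : Set.range (Spec.map (CommRingCat.ofHom (Ideal.Quotient.mk I))) =
        PrimeSpectrum.zeroLocus (I : Set A) := by
      have h4 := range_comap_of_surjective (A ⧸ I) (Ideal.Quotient.mk I)
        Ideal.Quotient.mk_surjective
      rw [Ideal.mk_ker] at h4
      exact h4
    rw [h1, h2, h3]
    exact (hy4 w).symm
  -- idempotents of `C` are determined by their open sets along `V(J)`
  have hinj : ∀ W W' : Set (PrimeSpectrum C), IsClopen W → IsClopen W' →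
      W ∩ PrimeSpectrum.zeroLocus (J : Set C) = W' ∩ PrimeSpectrum.zeroLocus (J : Set C) →
      W = W' := by
    intro W W' hW hW' h
    obtain ⟨U, -, hU⟩ := hX _ q hq (z.base ⁻¹' (y.base ⁻¹' W))
      ((hW.preimage y.continuous).preimage z.continuous)
    have h1 := hU (y.base ⁻¹' W) ⟨hW.preimage y.continuous, rfl⟩
    have h2 := hU (y.base ⁻¹' W') ⟨hW'.preimage y.continuous, by
      ext t
      have ht : y (z t) ∈ PrimeSpectrum.zeroLocus (J : Set C) := by
        have : z t ∈ Set.range z := ⟨t, rfl⟩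
        rw [hz] at this
        exact this
      have h3 := Set.ext_iff.1 h (y (z t))
      exact ⟨fun h4 => (h3.2 ⟨h4, ht⟩).1, fun h4 => (h3.1 ⟨h4, ht⟩).1⟩⟩
    have h3 : y.base ⁻¹' W = y.base ⁻¹' W' := h1.trans h2.symm
    exact hy2.preimage_injective h3
  refine ⟨?_, ?_, ?_⟩
  · intro e he
    exact he.map _
  · intro e he e' he' h
    refine PrimeSpectrum.basicOpen_injOn_isIdempotentElem he he' ?_
    apply TopologicalSpace.Opens.ext
    refine hinj _ _ (PrimeSpectrum.isClopen_iff.2 ⟨e, he, rfl⟩)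
      (PrimeSpectrum.isClopen_iff.2 ⟨e', he', rfl⟩) ?_
    ext t
    constructor
    · rintro ⟨h1, h2⟩
      refine ⟨fun h3 => h1 ?_, h2⟩
      have h4 : e - e' ∈ J := (Ideal.Quotient.mk_eq_mk_iff_sub_mem _ _).1 h
      have h5 : e - e' ∈ t.asIdeal := h2 h4
      simpa using t.asIdeal.add_mem h5 h3
    · rintro ⟨h1, h2⟩
      refine ⟨fun h3 => h1 ?_, h2⟩
      have h4 : e - e' ∈ J := (Ideal.Quotient.mk_eq_mk_iff_sub_mem _ _).1 h
      have h5 : e - e' ∈ t.asIdeal := h2 h4
      simpa using t.asIdeal.sub_mem h3 h5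
  · intro e₀ he₀
    let j : PrimeSpectrum (C ⧸ J) → PrimeSpectrum C := PrimeSpectrum.comap (Ideal.Quotient.mk J)
    have hj : Topology.IsClosedEmbedding j :=
      PrimeSpectrum.isClosedEmbedding_comap_of_surjective _ _ Ideal.Quotient.mk_surjective
    have hjr : Set.range j = PrimeSpectrum.zeroLocus (J : Set C) := by
      have h4 := range_comap_of_surjective (C ⧸ J) (Ideal.Quotient.mk J)
        Ideal.Quotient.mk_surjective
      rw [Ideal.mk_ker] at h4
      exact h4
    have hmi : ∀ (T : Set (PrimeSpectrum (C ⧸ J))) (s : PrimeSpectrum (C ⧸ J)),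
        (j s ∈ j '' T) ↔ s ∈ T := fun T s => hj.injective.mem_set_image
    have hD : IsClopen (PrimeSpectrum.basicOpen e₀ : Set (PrimeSpectrum (C ⧸ J))) :=
      PrimeSpectrum.isClopen_iff.2 ⟨e₀, he₀, rfl⟩
    let V : Set ↥(pullback q i) := {t | y (z t) ∈ j '' (PrimeSpectrum.basicOpen e₀ : Set _)}
    have hVc : IsClosed V := (hj.isClosedMap _ hD.1).preimage (y.continuous.comp z.continuous)
    have hmem : ∀ t, y (z t) ∈ Set.range j := by
      intro t
      rw [hjr]
      have : z t ∈ Set.range z := ⟨t, rfl⟩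
      rw [hz] at this
      exact this
    have hVo : IsOpen V := by
      rw [← isClosed_compl_iff]
      have h1 : Vᶜ = {t | y (z t) ∈ j '' (PrimeSpectrum.basicOpen e₀ : Set _)ᶜ} := by
        ext t
        obtain ⟨s, hs⟩ := hmem t
        have h5 : y (z t) ∈ j '' (PrimeSpectrum.basicOpen e₀ : Set _) ↔
            s ∈ (PrimeSpectrum.basicOpen e₀ : Set _) := by
          rw [← hmi, hs]
          exact Iff.rfl
        have h6 : y (z t) ∈ j '' (PrimeSpectrum.basicOpen e₀ : Set _)ᶜ ↔
            s ∈ (PrimeSpectrum.basicOpen e₀ : Set _)ᶜ := by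
          rw [← hmi, hs]
          exact Iff.rfl
        exact (not_congr h5).trans h6.symm
      rw [h1]
      exact (hj.isClosedMap _ hD.compl.1).preimage (y.continuous.comp z.continuous)
    obtain ⟨U, ⟨hU, hUV⟩, -⟩ := hX _ q hq V ⟨hVc, hVo⟩
    obtain ⟨W, hW, hWU⟩ := exists_isClopen_eq_preimage hy1 hy2 hy3 hU
    obtain ⟨e, he, heW⟩ := PrimeSpectrum.isClopen_iff.1 hW
    refine ⟨e, he, ?_⟩
    refine PrimeSpectrum.basicOpen_injOn_isIdempotentElem (he.map _) he₀ ?_
    apply TopologicalSpace.Opens.ext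
    ext s
    have hs : j s ∈ PrimeSpectrum.zeroLocus (J : Set C) := hjr ▸ ⟨s, rfl⟩
    obtain ⟨w, hw⟩ := hy2 (j s)
    have hw' : w ∈ Set.range z := by
      rw [hz]
      have : y w ∈ PrimeSpectrum.zeroLocus (J : Set C) := by rw [hw]; exact hs
      exact this
    obtain ⟨t, rfl⟩ := hw'
    have h1 : s ∈ (PrimeSpectrum.basicOpen (Ideal.Quotient.mk J e) : Set _) ↔ j s ∈ W := by
      rw [heW]
      rfl
    have h2 : j s ∈ W ↔ z t ∈ U := by
      rw [← hWU]
      have : y (z t) ∈ W ↔ j s ∈ W := by rw [hw]; exact Iff.rfl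
      exact this.symm
    have h3 : z t ∈ U ↔ t ∈ V := by
      rw [← hUV]
      rfl
    have h4 : t ∈ V ↔ s ∈ (PrimeSpectrum.basicOpen e₀ : Set _) := by
      have : y (z t) ∈ j '' (PrimeSpectrum.basicOpen e₀ : Set _) ↔
          s ∈ (PrimeSpectrum.basicOpen e₀ : Set _) := by
        rw [← hmi, hw]
        exact Iff.rfl
      exact this
    exact h1.trans (h2.trans (h3.trans h4))

end K106.HensPair
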